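import Groth.Agent.Lib.TwistContract.Basic
import Groth.Agent.Lib.Lim.Existence
import Groth.Agent.Lib.Lim.FPDescend
import Groth.Agent.H2.FlatDescend.Model
import Groth.Agent.Lib.Perfection.Local
import Mathlib.CategoryTheory.Functor.OfSequence

/-!
A perfection is the limit of the Frobenius tower; composites of perfectly finitely presented flat morphisms.
-/

set_option autoImplicit false
set_option linter.style.haveILetI false

noncomputable section

universe u

open CategoryTheory CategoryTheory.Limits AlgebraicGeometry Opposite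

namespace Groth.Agent.Lib.PerfFlat.Compose

open Groth.Agent.Lib.TwistContract.Basic

variable (p : ℕ) [Fact p.Prime]

theorem isIso_FN {X : Scheme.{u}} [FrobSch.IsCharP X p] (hX : FrobSch.IsPerfect X p) (N : ℕ) :
    IsIso (FN p X N) := by
  induction N with
  | zero => rw [FN_zero]; infer_instance
  | succ N ih =>
    haveI := ih
    haveI : IsIso (FrobSch.frob X p) := hX
    rw [FN_succ]; infer_instance

theorem frob_FN {X : Scheme.{u}} [FrobSch.IsCharP X p] (N : ℕ) :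
    FrobSch.frob X p ≫ FN p X N = FN p X (N + 1) := by
  rw [FN_succ, FN_comp]

instance isAffineHom_frob (X : Scheme.{u}) [FrobSch.IsCharP X p] : IsAffineHom (FrobSch.frob X p) :=
  ⟨fun _ hU => hU⟩

/-- The Frobenius tower. -/
def tower (Y₀ : Scheme.{u}) [FrobSch.IsCharP Y₀ p] : (AsSmall.{u} ℕᵒᵖ) ⥤ Scheme.{u} :=
  AsSmall.down ⋙ Functor.ofOpSequence (X := fun _ : ℕ => Y₀) fun _ => FrobSch.frob Y₀ p

theorem isAffineHom_tower (Y₀ : Scheme.{u}) [FrobSch.IsCharP Y₀ p] :
    ∀ {i j : AsSmall.{u} ℕᵒᵖ} (f : i ⟶ j), IsAffineHom ((tower p Y₀).map f) := by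
  have h : ∀ (m n : ℕ) (hmn : m ≤ n),
      IsAffineHom ((Functor.ofOpSequence (X := fun _ : ℕ => Y₀) fun _ => FrobSch.frob Y₀ p).map (homOfLE hmn).op) := by
    intro m n hmn
    induction n, hmn using Nat.le_induction with
    | base => rw [show (homOfLE (le_refl m)).op = 𝟙 (op m) from rfl, CategoryTheory.Functor.map_id]; infer_instance
    | succ n hmn ih =>
      rw [← homOfLE_comp hmn n.le_succ, op_comp, Functor.map_comp, Functor.ofOpSequence_map_homOfLE_succ]
      exact ⟨fun U hU => ih.isAffine_preimage U hU⟩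
  intro i j f
  exact h (AsSmall.down.obj j).unop (AsSmall.down.obj i).unop (leOfHom (AsSmall.down.map f).unop)

/-- The stages of the tower. -/
abbrev stage (n : ℕ) : AsSmall.{u} ℕᵒᵖ := AsSmall.up.obj (op n)

/-- The cone on a compatible family of morphisms. -/
def coneOfFamily {T Y₀ : Scheme.{u}} [FrobSch.IsCharP Y₀ p] (f : ℕ → (T ⟶ Y₀))
    (hf : ∀ n, f (n + 1) ≫ FrobSch.frob Y₀ p = f n) : Cone (tower p Y₀) where
  pt := T
  π := Functor.whiskerLeft AsSmall.down (NatTrans.ofOpSequence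
    (F := (Functor.const ℕᵒᵖ).obj T)
    (G := Functor.ofOpSequence (X := fun _ : ℕ => Y₀) fun _ => FrobSch.frob Y₀ p)
    f fun n => by
      rw [Functor.ofOpSequence_map_homOfLE_succ]
      exact (Category.id_comp _).trans (hf n).symm)

variable {Y Y₀ : Scheme.{u}} [FrobSch.IsCharP Y p] [FrobSch.IsCharP Y₀ p] {πY : Y ⟶ Y₀}

/-- The projection of a perfection to the `n`-th stage of the tower. -/
def proj (hY : FrobSch.IsPerfection πY p) (n : ℕ) : Y ⟶ Y₀ :=
  haveI := isIso_FN p hY.1 n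
  inv (FN p Y n) ≫ πY

theorem proj_FN (hY : FrobSch.IsPerfection πY p) (n : ℕ) : proj p hY n ≫ FN p Y₀ n = πY := by
  haveI := isIso_FN p hY.1 n
  rw [proj, Category.assoc, ← FN_comp, IsIso.inv_hom_id_assoc]

/-- Cancelling a Frobenius on a perfect source. -/
theorem cancel_FN {T Z : Scheme.{u}} [FrobSch.IsCharP T p] [FrobSch.IsCharP Z p]
    (hT : FrobSch.IsPerfect T p) (n : ℕ) {a b : T ⟶ Z} (h : a ≫ FN p Z n = b ≫ FN p Z n) : a = b := by
  haveI := isIso_FN p hT n
  rw [← FN_comp, ← FN_comp] at h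
  exact (cancel_epi _).1 h

theorem proj_step (hY : FrobSch.IsPerfection πY p) (n : ℕ) :
    proj p hY (n + 1) ≫ FrobSch.frob Y₀ p = proj p hY n := by
  refine cancel_FN p hY.1 n ?_
  rw [Category.assoc, frob_FN, proj_FN, proj_FN]

/-- The cone of a perfection over the Frobenius tower. -/
abbrev cone (hY : FrobSch.IsPerfection πY p) : Cone (tower p Y₀) :=
  coneOfFamily p (fun n => proj p hY n) (proj_step p hY)

theorem cone_app (hY : FrobSch.IsPerfection πY p) (j : AsSmall.{u} ℕᵒᵖ) :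
    (cone p hY).π.app j = proj p hY (AsSmall.down.obj j).unop := by
  rfl

theorem proj_tower {L : Cone (tower p Y₀)} (n : ℕ) :
    (show L.pt ⟶ Y₀ from L.π.app (stage (n + 1))) ≫ FrobSch.frob Y₀ p =
      (show L.pt ⟶ Y₀ from L.π.app (stage n)) := by
  have h := L.w (AsSmall.up.map (homOfLE n.le_succ).op : stage (n + 1) ⟶ stage n)
  refine Eq.trans ?_ h
  refine congrArg ((show L.pt ⟶ Y₀ from L.π.app (stage (n + 1))) ≫ ·) ?_
  exact (Functor.ofOpSequence_map_homOfLE_succ (X := fun _ : ℕ => Y₀) (fun _ => FrobSch.frob Y₀ p) n).symm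

/-- The limit of the Frobenius tower is perfect. -/
theorem isPerfect_of_isLimit {L : Cone (tower p Y₀)} (hL : IsLimit L) [FrobSch.IsCharP L.pt p] :
    FrobSch.IsPerfect L.pt p := by
  let pr : ℕ → (L.pt ⟶ Y₀) := fun n => L.π.app (stage n)
  have hstep : ∀ n, pr (n + 1) ≫ FrobSch.frob Y₀ p = pr n := proj_tower p
  have hext : ∀ {T : Scheme.{u}} (a b : T ⟶ L.pt), (∀ n, a ≫ pr n = b ≫ pr n) → a = b := fun a b h =>
    hL.hom_ext fun j => h (AsSmall.down.obj j).unop
  let σ : L.pt ⟶ L.pt := hL.lift (coneOfFamily p (fun n => pr (n + 1)) fun n => hstep (n + 1))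
  have key : ∀ n, σ ≫ pr n = pr (n + 1) := fun n => hL.fac _ (stage n)
  refine ⟨σ, hext _ _ fun n => ?_, hext _ _ fun n => ?_⟩
  · rw [Category.assoc, key, FrobSch.frob_comp, Category.id_comp]
    exact hstep n
  · rw [Category.assoc, FrobSch.frob_comp, reassoc_of% (key n), Category.id_comp]
    exact hstep n

/-- A perfection is the limit of the Frobenius tower. -/
theorem nonempty_isLimit_cone (hY : FrobSch.IsPerfection πY p)
    (haff : ∀ {i j : AsSmall.{u} ℕᵒᵖ} (f : i ⟶ j), IsAffineHom ((tower p Y₀).map f)) :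
    Nonempty (IsLimit (cone p hY)) := by
  haveI := @haff
  obtain ⟨L, hL, -⟩ := Lim.Existence.exists_isLimit (D := tower p Y₀)
  let pr : ℕ → (L.pt ⟶ Y₀) := fun n => L.π.app (stage n)
  have hstep : ∀ n, pr (n + 1) ≫ FrobSch.frob Y₀ p = pr n := fun n => by
    have h := L.w (AsSmall.up.map (homOfLE n.le_succ).op : stage (n + 1) ⟶ stage n)
    refine Eq.trans ?_ h
    refine congrArg (pr (n + 1) ≫ ·) ?_
    exact (Functor.ofOpSequence_map_homOfLE_succ (X := fun _ : ℕ => Y₀) (fun _ => FrobSch.frob Y₀ p) n).symm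
  haveI : FrobSch.IsCharP L.pt p := FrobSch.IsCharP.of_hom (pr 0) p
  have hpow : ∀ n, pr n ≫ FN p Y₀ n = pr 0 := fun n => by
    induction n with
    | zero => rw [FN_zero, Category.comp_id]
    | succ n ih => rw [← frob_FN, reassoc_of% (hstep n), ih]
  have hext : ∀ {T : Scheme.{u}} (a b : T ⟶ L.pt), (∀ n, a ≫ pr n = b ≫ pr n) → a = b := fun a b h =>
    hL.hom_ext fun j => h (AsSmall.down.obj j).unop
  have hperf : FrobSch.IsPerfect L.pt p := isPerfect_of_isLimit p hL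
  obtain ⟨l, hl : l ≫ πY = pr 0⟩ := (hY.2 L.pt hperf).2 (pr 0)
  have hl' : ∀ n, l ≫ proj p hY n = pr n := fun n =>
    cancel_FN p hperf n (by rw [Category.assoc, proj_FN, hl, hpow])
  let k : Y ⟶ L.pt := hL.lift (cone p hY)
  have hk : ∀ n, k ≫ pr n = proj p hY n := fun n => hL.fac _ (stage n)
  have h1 : k ≫ l = 𝟙 Y := by
    refine (hY.2 Y hY.1).1 ?_
    change (k ≫ l) ≫ πY = 𝟙 Y ≫ πY
    rw [Category.assoc, hl, hk, Category.id_comp]
    exact (by rw [FN_zero, Category.comp_id] : proj p hY 0 ≫ FN p Y₀ 0 = proj p hY 0).symm.trans (proj_FN p hY 0)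
  have h2 : l ≫ k = 𝟙 L.pt := hext _ _ fun n => by
    rw [Category.assoc, hk, Category.id_comp]
    exact hl' n
  exact ⟨hL.ofIsoLimit (Cone.ext ⟨l, k, h2, h1⟩ fun j => (hl' (AsSmall.down.obj j).unop).symm)⟩

/-- Composites of perfectly finitely presented flat morphisms. -/
theorem exists_factor {X Z Z₀ : Scheme.{u}} [FrobSch.IsCharP X p] [FrobSch.IsCharP Z p]
    [CompactSpace X] [QuasiSeparatedSpace X] [CompactSpace Y] [QuasiSeparatedSpace Y]
    (hX : FrobSch.IsPerfect X p)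
    (g₀ : Y₀ ⟶ X) [Flat g₀] [LocallyOfFinitePresentation g₀] [QuasiCompact g₀] [QuasiSeparated g₀]
    (hY : FrobSch.IsPerfection πY p)
    (f₀ : Z₀ ⟶ Y) [Flat f₀] [LocallyOfFinitePresentation f₀] [QuasiCompact f₀] [QuasiSeparated f₀]
    (πZ : Z ⟶ Z₀) (hZ : FrobSch.IsPerfection πZ p) :
    ∃ (W₀ : Scheme.{u}) (h₀ : W₀ ⟶ X) (ϖ : Z ⟶ W₀),
      Flat h₀ ∧ LocallyOfFinitePresentation h₀ ∧ QuasiCompact h₀ ∧ QuasiSeparated h₀ ∧
        FrobSch.IsPerfection ϖ p ∧ ϖ ≫ h₀ = πZ ≫ f₀ ≫ πY ≫ g₀ ∧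
          (Surjective g₀ → Surjective f₀ → Surjective h₀) := by
  haveI : CompactSpace Y₀ := QuasiCompact.compactSpace_of_compactSpace g₀
  haveI : QuasiSeparatedSpace Y₀ := quasiSeparatedSpace_of_quasiSeparated g₀
  haveI : CompactSpace Z₀ := QuasiCompact.compactSpace_of_compactSpace f₀
  haveI : QuasiSeparatedSpace Z₀ := quasiSeparatedSpace_of_quasiSeparated f₀
  haveI haff : ∀ {i j : AsSmall.{u} ℕᵒᵖ} (f : i ⟶ j), IsAffineHom ((tower p Y₀).map f) :=
    isAffineHom_tower p Y₀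
  haveI : ∀ i, CompactSpace ((tower p Y₀).obj i) := fun i => ‹CompactSpace Y₀›
  haveI : ∀ i, QuasiSeparatedSpace ((tower p Y₀).obj i) := fun i => ‹QuasiSeparatedSpace Y₀›
  obtain ⟨hc⟩ := nonempty_isLimit_cone p hY haff
  obtain ⟨i, Xi, fi, g, hXc, hXq, hfi, hsq⟩ :=
    @Lim.FPDescend.exists_descent _ _ _ (tower p Y₀) (cone p hY) _ _ _ hc Z₀ f₀ ‹_› ‹_› ‹_›
  obtain ⟨j, φ, hj⟩ := Groth.Agent.H2.FlatDescend.flatFp_descends (tower p Y₀) (cone p hY) hc
    (fun _ _ f => haff f) i inferInstance inferInstance fi hXc hXq hfi f₀ g hsq ⟨‹Flat f₀›, ‹LocallyOfFinitePresentation f₀›⟩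
  have hsq' := Lim.FPDescend.move (D := tower p Y₀) (c := cone p hY) (f := f₀) hsq φ
  have hWc := Lim.FPDescend.compactSpace_stage fi φ
  have hWq := Lim.FPDescend.quasiSeparatedSpace_stage fi φ
  let n : ℕ := (AsSmall.down.obj j).unop
  obtain ⟨W₀, s, q, hsq'', hWc', hWq', hs1, hs2⟩ : ∃ (W₀ : Scheme.{u}) (s : W₀ ⟶ Y₀) (q : Z₀ ⟶ W₀),
      IsPullback q f₀ s (proj p hY n) ∧ CompactSpace W₀ ∧ QuasiSeparatedSpace W₀ ∧ Flat s ∧
        LocallyOfFinitePresentation s :=
    ⟨pullback fi ((tower p Y₀).map φ), pullback.snd fi ((tower p Y₀).map φ), _, hsq', hWc, hWq, hj.1, hj.2⟩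
  clear hsq' hj
  haveI := hs1
  haveI := hWc'
  haveI := hWq'
  haveI := hs2
  haveI := isIso_FN p hX n
  haveI : QuasiSeparated (s ≫ g₀ ≫ FN p X n) :=
    QuasiSeparated.of_quasiSeparatedSpace _
  haveI : QuasiCompact (s ≫ g₀ ≫ FN p X n) := (quasiCompact_iff_compactSpace _).2 inferInstance
  haveI : FrobSch.IsCharP W₀ p := FrobSch.IsCharP.of_hom s p
  refine ⟨W₀, s ≫ g₀ ≫ FN p X n, πZ ≫ q, inferInstance, inferInstance, ‹_›, ‹_›, ⟨hZ.1, ?_⟩, ?_, ?_⟩
  · intro T _ hT
    refine ⟨fun a b hab => (hZ.2 T hT).1 ?_, fun a => ?_⟩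
    · simp only [← Category.assoc] at hab
      refine hsq''.hom_ext hab ((hY.2 T hT).1 ?_)
      have h := congrArg (· ≫ s ≫ FN p Y₀ n) hab
      simp only [Category.assoc, reassoc_of% hsq''.w, proj_FN] at h
      simpa only [Category.assoc] using h
    · obtain ⟨b, hb : b ≫ πY = a ≫ s ≫ FN p Y₀ n⟩ := (hY.2 T hT).2 (a ≫ s ≫ FN p Y₀ n)
      have hb' : a ≫ s = b ≫ proj p hY n := by
        haveI : FrobSch.IsCharP Y₀ p := ‹_›
        refine cancel_FN p hT n ?_
        rw [Category.assoc, Category.assoc, proj_FN, hb]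
      obtain ⟨c, hc'⟩ := (hZ.2 T hT).2 (hsq''.lift a b hb')
      refine ⟨c, ?_⟩
      change c ≫ πZ ≫ q = a
      simp only at hc'
      rw [← Category.assoc, hc', IsPullback.lift_fst]
  · rw [← FN_comp p g₀ n, Category.assoc, reassoc_of% hsq''.w, reassoc_of% (proj_FN p hY n)]
  · intro hg hf
    haveI : Surjective πY := Perfection.Local.surjective p hY
    haveI : Surjective s := by
      haveI : Surjective (proj p hY n) := by
        haveI := isIso_FN p hY.1 n
        rw [proj]; infer_instance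
      haveI : Surjective (q ≫ s) := by rw [hsq''.w]; infer_instance
      exact Surjective.of_comp q s
    infer_instance

end Groth.Agent.Lib.PerfFlat.Compose
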