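import Groth.Agent.Lib.PerfFlat.Compose
import Groth.Agent.Lib.Perfection.Morph
import Groth.Agent.Lib.Lim.Approx.Rel
import Mathlib.Data.ZMod.QuotientRing

/-!
Perfect schemes satisfying the compactness condition have models of finite presentation.
-/

set_option autoImplicit false
set_option linter.style.haveILetI false

noncomputable section

universe u

open CategoryTheory CategoryTheory.Limits AlgebraicGeometry Opposite

namespace Groth.Agent.Lib.PerfFlat.Model

open Groth.Agent.Lib.TwistContract.Basic Groth.Agent.Lib.PerfFlat.Compose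

variable {p : ℕ} [Fact p.Prime]

/-- The spectrum of the prime field. -/
abbrev base (p : ℕ) : Scheme.{u} := Spec (CommRingCat.of (ULift.{u} (ZMod p)))

instance subsingleton_to_base (T : Scheme.{u}) : Subsingleton (T ⟶ base.{u} p) := by
  refine ⟨fun a b => ext_to_Spec ?_⟩
  ext x
  obtain ⟨x⟩ := x
  exact RingHom.congr_fun (Subsingleton.elim
    ((((Scheme.ΓSpecIso (CommRingCat.of (ULift.{u} (ZMod p)))).inv ≫ a.appTop).hom).comp
      ULift.ringEquiv.symm.toRingHom)
    ((((Scheme.ΓSpecIso (CommRingCat.of (ULift.{u} (ZMod p)))).inv ≫ b.appTop).hom).comp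
      ULift.ringEquiv.symm.toRingHom)) x

theorem exists_to_base (T : Scheme.{u}) [FrobSch.IsCharP T p] : Nonempty (T ⟶ base.{u} p) := by
  let f : ℤ ⧸ Ideal.span {(p : ℤ)} →+* Γ(T, ⊤) := Ideal.Quotient.lift _ (Int.castRingHom _) fun a ha => by
    obtain ⟨b, rfl⟩ := Ideal.mem_span_singleton.1 ha
    have h : (p : Γ(T, ⊤)) = 0 := FrobSch.IsCharP.natCast_eq_zero
    simp [h]
  exact ⟨T.toSpecΓ ≫ Spec.map (CommRingCat.ofHom
    ((f.comp (Int.quotientSpanNatEquivZMod p).symm.toRingHom).comp ULift.ringEquiv.toRingHom))⟩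

/-- Perfections exist. -/
theorem exists_perfection (Y₀ : Scheme.{u}) [FrobSch.IsCharP Y₀ p] :
    ∃ (P : Scheme.{u}) (_ : FrobSch.IsCharP P p) (π : P ⟶ Y₀), FrobSch.IsPerfection π p := by
  haveI : ∀ {i j : AsSmall.{u} ℕᵒᵖ} (f : i ⟶ j), IsAffineHom ((tower p Y₀).map f) :=
    isAffineHom_tower p Y₀
  obtain ⟨L, hL, -⟩ := Lim.Existence.exists_isLimit (D := tower p Y₀)
  let pr : ℕ → (L.pt ⟶ Y₀) := fun n => L.π.app (stage n)
  haveI : FrobSch.IsCharP L.pt p := FrobSch.IsCharP.of_hom (pr 0) p
  have hpow : ∀ n, pr n ≫ FN p Y₀ n = pr 0 := fun n => by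
    induction n with
    | zero => rw [FN_zero, Category.comp_id]
    | succ n ih =>
      have h : pr (n + 1) ≫ FrobSch.frob Y₀ p = pr n := proj_tower p n
      rw [← frob_FN, reassoc_of% h, ih]
  refine ⟨L.pt, inferInstance, pr 0, isPerfect_of_isLimit p hL, fun T _ hT => ⟨fun a b hab => ?_, fun a => ?_⟩⟩
  · refine hL.hom_ext fun j => ?_
    change a ≫ pr (AsSmall.down.obj j).unop = b ≫ pr (AsSmall.down.obj j).unop
    simp only at hab
    refine cancel_FN p hT (AsSmall.down.obj j).unop ?_
    rw [Category.assoc, Category.assoc, hpow, hab]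
  · have hf : ∀ n, (haveI := isIso_FN p hT (n + 1); inv (FN p T (n + 1)) ≫ a) ≫ FrobSch.frob Y₀ p =
        (haveI := isIso_FN p hT n; inv (FN p T n) ≫ a) := fun n => by
      haveI := isIso_FN p hT (n + 1)
      haveI := isIso_FN p hT n
      refine cancel_FN p hT n ?_
      rw [Category.assoc, frob_FN, Category.assoc, ← FN_comp, IsIso.inv_hom_id_assoc, Category.assoc,
        ← FN_comp, IsIso.inv_hom_id_assoc]
    refine ⟨hL.lift (coneOfFamily p (fun n => haveI := isIso_FN p hT n; inv (FN p T n) ≫ a) hf), (hL.fac _ (stage 0)).trans ?_⟩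
    change (haveI := isIso_FN p hT 0; inv (FN p T 0) ≫ a) = a
    haveI := isIso_FN p hT 0
    rw [IsIso.inv_comp_eq, FN_zero, Category.id_comp]

theorem exists_model (X : Scheme.{u}) [FrobSch.IsCharP X p] [CompactSpace X] [QuasiSeparatedSpace X]
    (hX : FrobSch.IsPerfect X p)
    (hc : ∀ (J : Type u) [SmallCategory J] [IsCofiltered J] (F : J ⥤ Scheme.{u})
      [∀ j, FrobSch.IsCharP (F.obj j) p] (c : Cone F) [FrobSch.IsCharP c.pt p], IsLimit c →
      (∀ ⦃i j : J⦄ (a : i ⟶ j), IsAffineHom (F.map a)) →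
      (∀ j, FrobSch.IsPerfect (F.obj j) p ∧ CompactSpace (F.obj j) ∧ QuasiSeparatedSpace (F.obj j)) →
      FrobSch.IsPerfect c.pt p → CompactSpace c.pt → QuasiSeparatedSpace c.pt →
      ∀ g : c.pt ⟶ X, ∃ (j : J) (gj : F.obj j ⟶ X), c.π.app j ≫ gj = g) :
    ∃ (X0 : Scheme.{u}) (s : X0 ⟶ base.{u} p) (_ : LocallyOfFinitePresentation s)
      (_ : CompactSpace X0) (_ : QuasiSeparatedSpace X0) (π : X ⟶ X0), FrobSch.IsPerfection π p := by
  obtain ⟨f⟩ := exists_to_base (p := p) X
  obtain ⟨R⟩ := Lim.Approx.Rel.exists_relApprox f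
  haveI : ∀ k, FrobSch.IsCharP (R.D.obj k) p := fun k => FrobSch.IsCharP.of_hom (Y := base.{u} p) (show R.D.obj k ⟶ base.{u} p from R.t.app k) p
  choose P hPc π hπ using fun k => exists_perfection (p := p) (R.D.obj k)
  haveI := hPc
  haveI : ∀ k, IsIntegralHom (π k) := fun k => Perfection.Local.isIntegralHom p (hπ k)
  have hinj : ∀ {T : Scheme.{u}} [FrobSch.IsCharP T p], FrobSch.IsPerfect T p → ∀ {k} (a b : T ⟶ P k),
      a ≫ π k = b ≫ π k → a = b := fun hT k _ _ h => ((hπ k).2 _ hT).1 h
  choose m hm using fun {a b : R.Kᵒᵖ} (t : a ⟶ b) => ((hπ b).2 _ (hπ a).1).2 (π a ≫ R.D.map t)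
  let F : R.Kᵒᵖ ⥤ Scheme.{u} :=
    { obj := P
      map := fun t => m t
      map_id := fun a => hinj (hπ a).1 _ _ ((hm _).trans (by
        rw [CategoryTheory.Functor.map_id, Category.comp_id, Category.id_comp]))
      map_comp := fun s t => hinj (hπ _).1 _ _ ((hm _).trans (by
        rw [Functor.map_comp, Category.assoc]
        simp only at hm
        rw [hm, reassoc_of% (hm s)])) }
  simp only at hm
  haveI : ∀ k, FrobSch.IsCharP (F.obj k) p := hPc
  haveI haff : ∀ {i j : R.Kᵒᵖ} (t : i ⟶ j), IsAffineHom (F.map t) := fun {i j} t => by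
    change IsAffineHom (m t)
    haveI : IsAffineHom (m t ≫ π j) := by rw [hm]; infer_instance
    exact IsAffineHom.of_comp (m t) (π j)
  choose a ha using fun k => ((hπ k).2 X hX).2 (R.π.app k)
  simp only at ha
  let cX : Cone F :=
    { pt := X
      π :=
        { app := a
          naturality := fun i j t => hinj hX _ _ (by
            have hn := R.π.naturality t
            simp only [Functor.const_obj_map, Category.id_comp] at hn
            change (𝟙 X ≫ a j) ≫ π j = (a i ≫ m t) ≫ π j
            rw [Category.id_comp, Category.assoc, hm, reassoc_of% (ha i), ha]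
            exact hn) } }
  obtain ⟨L, hL, -⟩ := Lim.Existence.exists_isLimit (D := F)
  obtain ⟨k₀⟩ := IsCofiltered.nonempty (C := R.Kᵒᵖ)
  haveI : FrobSch.IsCharP L.pt p := FrobSch.IsCharP.of_hom (Y := F.obj k₀) (L.π.app k₀) p
  haveI : ∀ k, IsIso (FrobSch.frob (F.obj k) p) := fun k => (hπ k).1
  have hperf : FrobSch.IsPerfect L.pt p := by
    let s : Cone F :=
      { pt := L.pt
        π :=
          { app := fun k => L.π.app k ≫ inv (FrobSch.frob (F.obj k) p)
            naturality := fun i j t => by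
              have h : inv (FrobSch.frob (F.obj i) p) ≫ F.map t =
                  F.map t ≫ inv (FrobSch.frob (F.obj j) p) := by
                rw [IsIso.inv_comp_eq, ← Category.assoc, IsIso.eq_comp_inv, FrobSch.frob_comp]
              simp only [Functor.const_obj_map, Category.id_comp, Functor.const_obj_obj, Category.assoc, h]
              rw [L.w_assoc] } }
    have key : ∀ k, hL.lift s ≫ L.π.app k = L.π.app k ≫ inv (FrobSch.frob (F.obj k) p) := hL.fac s
    refine ⟨hL.lift s, hL.hom_ext fun k => ?_, hL.hom_ext fun k => ?_⟩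
    · rw [Category.assoc, key]
      erw [← Category.assoc, FrobSch.frob_comp p (show L.pt ⟶ F.obj k from L.π.app k), Category.assoc,
        IsIso.hom_inv_id, Category.comp_id]
    · rw [Category.assoc]
      erw [FrobSch.frob_comp p (show L.pt ⟶ F.obj k from L.π.app k), reassoc_of% (key k),
        IsIso.inv_hom_id, Category.comp_id]
  have hcX : IsLimit cX := by
    let cl : Cone R.D :=
      { pt := L.pt
        π :=
          { app := fun k => (show L.pt ⟶ P k from L.π.app k) ≫ π k
            naturality := fun i j t => by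
              simp only [Functor.const_obj_map, Category.id_comp, Category.assoc]
              rw [← hm t]
              exact (congrArg (fun z : L.pt ⟶ P j => z ≫ π j)
                ((Category.id_comp _).trans (L.w t).symm)).trans (Category.assoc _ _ _) } }
    let l : L.pt ⟶ X := R.isLimit.lift cl
    have hl : ∀ k, l ≫ R.π.app k = (show L.pt ⟶ P k from L.π.app k) ≫ π k := R.isLimit.fac cl
    let kk : X ⟶ L.pt := hL.lift cX
    have hk : ∀ k, kk ≫ L.π.app k = a k := hL.fac cX
    have h1 : l ≫ kk = 𝟙 L.pt := hL.hom_ext fun k => by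
      rw [Category.assoc, hk, Category.id_comp]
      exact hinj hperf _ _ (by rw [Category.assoc, ha, hl])
    have h2 : kk ≫ l = 𝟙 X := R.isLimit.hom_ext fun k => by
      change (kk ≫ l) ≫ R.π.app k = 𝟙 X ≫ R.π.app k
      rw [Category.assoc, hl, Category.id_comp]
      erw [← Category.assoc, hk, ha]
    exact hL.ofIsoLimit (Cone.ext ⟨l, kk, h1, h2⟩ fun k => hinj hperf _ _ (by
      change _ = (l ≫ a k) ≫ π k
      rw [Category.assoc, ha, hl]))
  obtain ⟨j, gj, hgj⟩ := hc R.Kᵒᵖ F cX hcX (fun i j t => haff t)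
    (fun k => ⟨(hπ k).1, QuasiCompact.compactSpace_of_compactSpace (π k),
      quasiSeparatedSpace_of_quasiSeparated (π k)⟩) hX inferInstance inferInstance (𝟙 X)
  change a j ≫ gj = 𝟙 X at hgj
  let XJ : Scheme.{u} := R.D.obj j
  let e₀ : P j ⟶ XJ := (show P j ⟶ X from gj) ≫ R.π.app j
  obtain ⟨hc'⟩ := nonempty_isLimit_cone p (hπ j) (isAffineHom_tower p (R.D.obj j))
  haveI : ∀ {i i' : AsSmall.{u} ℕᵒᵖ} (t : i ⟶ i'), IsAffineHom ((tower p (R.D.obj j)).map t) :=
    isAffineHom_tower p (R.D.obj j)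
  haveI : ∀ i, CompactSpace ((tower p (R.D.obj j)).obj i) := fun _ => R.compact j
  haveI : ∀ i, QuasiSeparatedSpace ((tower p (R.D.obj j)).obj i) := fun _ => R.quasiSep j
  let tt : tower p (R.D.obj j) ⟶ (Functor.const _).obj (base.{u} p) :=
    { app := fun _ => R.t.app j
      naturality := fun _ _ _ => (subsingleton_to_base _).elim _ _ }
  obtain ⟨i, g₁, hg₁, -⟩ := Scheme.exists_π_app_comp_eq_of_locallyOfFinitePresentation
    (tower p (R.D.obj j)) tt (R.t.app j) (cone p (hπ j)) hc' e₀ (by
      ext i : 2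
      exact (subsingleton_to_base _).elim _ _)
  let n : ℕ := (AsSmall.down.obj i).unop
  let g : XJ ⟶ XJ := g₁
  have hg : π j ≫ g = e₀ ≫ FN p XJ n := by
    have h1 : proj p (hπ j) n ≫ g = e₀ := hg₁
    have h2 : proj p (hπ j) n ≫ FN p XJ n = π j := proj_FN p (hπ j) n
    rw [← h2, Category.assoc, FN_comp, reassoc_of% h1]
  let d : XJ ⟶ pullback (R.t.app j) (R.t.app j) :=
    pullback.lift g (FN p XJ n) ((subsingleton_to_base _).elim _ _)
  let X0 := pullback d (pullback.diagonal (R.t.app j))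
  let i0 : X0 ⟶ XJ := pullback.fst _ _
  haveI : LocallyOfFinitePresentation (pullback.diagonal (R.t.app j) ≫ pullback.fst _ _) := by
    rw [pullback.diagonal_fst]; infer_instance
  haveI : LocallyOfFinitePresentation (pullback.diagonal (R.t.app j)) :=
    Lim.OpenImm.lfp_of_comp _ (pullback.fst _ _)
  haveI : LocallyOfFinitePresentation i0 := MorphismProperty.of_isPullback (IsPullback.of_hasPullback d _).flip inferInstance
  haveI : QuasiCompact i0 := MorphismProperty.of_isPullback (IsPullback.of_hasPullback d _).flip inferInstance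
  haveI : QuasiSeparated i0 := MorphismProperty.of_isPullback (IsPullback.of_hasPullback d _).flip inferInstance
  haveI : CompactSpace XJ := R.compact j
  haveI : QuasiSeparatedSpace XJ := R.quasiSep j
  haveI : CompactSpace X0 := QuasiCompact.compactSpace_of_compactSpace i0
  haveI : QuasiSeparatedSpace X0 := quasiSeparatedSpace_of_quasiSeparated i0
  haveI : FrobSch.IsCharP X0 p := FrobSch.IsCharP.of_hom i0 p
  have hcond : ∀ {T : Scheme.{u}} (u' : T ⟶ X0), (u' ≫ i0) ≫ g = (u' ≫ i0) ≫ FN p XJ n ∧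
      u' ≫ pullback.snd _ _ = (u' ≫ i0) ≫ g := fun {T} u' => by
    have h := congrArg (u' ≫ ·) (pullback.condition (f := d) (g := pullback.diagonal (R.t.app j)))
    have h1 := congrArg (· ≫ pullback.fst _ _) h
    have h2 := congrArg (· ≫ pullback.snd _ _) h
    simp only [Category.assoc, d, pullback.lift_fst, pullback.lift_snd, pullback.diagonal_fst,
      pullback.diagonal_snd, Category.comp_id] at h1 h2
    simp only [Category.assoc]
    exact ⟨h1.trans h2.symm, h1.symm⟩
  have hXj : R.π.app j ≫ g = R.π.app j ≫ FN p XJ n := by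
    erw [← ha j, Category.assoc, hg]
    change a j ≫ ((show P j ⟶ X from gj) ≫ R.π.app j) ≫ FN p XJ n = _
    erw [← Category.assoc, reassoc_of% hgj, ha]
  let π0 : X ⟶ X0 := pullback.lift (R.π.app j) (R.π.app j ≫ g) (by
    apply pullback.hom_ext <;>
      simp only [Category.assoc, d, pullback.lift_fst, pullback.lift_snd, pullback.diagonal_fst,
        pullback.diagonal_snd, Category.comp_id]
    exact hXj.symm)
  have hπ0 : π0 ≫ i0 = R.π.app j := pullback.lift_fst _ _ _
  refine ⟨X0, i0 ≫ R.t.app j, inferInstance, inferInstance, inferInstance, π0, hX,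
    fun T _ hT => ⟨fun u₁ u₂ h => ?_, fun u' => ?_⟩⟩
  · simp only at h
    have h' := congrArg (· ≫ i0) h
    simp only [Category.assoc, hπ0] at h'
    have h3 : u₁ ≫ a j = u₂ ≫ a j := hinj hT _ _ (by rw [Category.assoc, Category.assoc, ha]; exact h')
    calc u₁ = u₁ ≫ a j ≫ gj := by rw [hgj, Category.comp_id]
      _ = u₂ ≫ a j ≫ gj := by rw [reassoc_of% h3]
      _ = u₂ := by rw [hgj, Category.comp_id]
  · obtain ⟨h1, h2⟩ := hcond u'
    obtain ⟨v, hv⟩ := ((hπ j).2 T hT).2 (u' ≫ i0)
    simp only at hv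
    have h3 : (v ≫ (show P j ⟶ X from gj)) ≫ R.π.app j = u' ≫ i0 := by
      refine cancel_FN p hT n ?_
      calc ((v ≫ (show P j ⟶ X from gj)) ≫ R.π.app j) ≫ FN p XJ n = v ≫ e₀ ≫ FN p XJ n := by
            simp only [e₀, Category.assoc]
        _ = v ≫ π j ≫ g := by rw [hg]
        _ = (u' ≫ i0) ≫ g := by rw [← Category.assoc, hv]
        _ = (u' ≫ i0) ≫ FN p XJ n := h1
    refine ⟨v ≫ (show P j ⟶ X from gj), ?_⟩
    change (v ≫ (show P j ⟶ X from gj)) ≫ π0 = u'
    apply pullback.hom_ext
    · rw [Category.assoc, pullback.lift_fst]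
      exact h3
    · rw [Category.assoc, pullback.lift_snd, h2, ← Category.assoc]
      exact congrArg (· ≫ g) h3

end Groth.Agent.Lib.PerfFlat.Model
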